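import Cfsg.Agent.BZ.E2.E7U
import Cfsg.Agent.BZ.Asm
import Cfsg.Agent.BZ.L.TA.All
import Cfsg.Agent.KM.Ex.Row

/-!
# BZ / E2 : all the exceptional rows at the prime two (helper73)

`ex7 : Ex7 2`.
-/

set_option autoImplicit false
set_option linter.unusedSectionVars false

namespace Cfsg.Agent.BZ.E2

open Cfsg Cfsg.Lie Subgroup Matrix Cfsg.Agent.DL Cfsg.Agent.KM Cfsg.Agent.KM.Tor Cfsg.Agent.BZ.L Cfsg.Agent.KZ.DatX
  Cfsg.Agent.KM.Sc Cfsg.Agent.Nodes.RGDChev Cfsg.Agent.ChevalleyStructure.NPerm Cfsg.Agent.Tits.Roots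
open Cfsg.Agent.TO.X (ZD)

namespace Al

variable {C : ChevalleyDatum} {n : ℕ} {M : CoxeterMatrix (Fin n)} {hp : IsType C n M} {r e : ℕ} [Fact r.Prime] {S : Type} [Group S]

theorem zc_one {k : Type} [Field k] [CharP k r] [IsAlgClosed k] {Mx : Matrix (Fin n) (Fin n) ℤ} (X : XF hp r k Mx)
    {z : ↥(C.group k)} (hz : z ∈ Zc X.D {a | X.D.Rt a}) : z = 1 := by
  obtain ⟨c, rfl⟩ := (X.D.mem_T z).1 hz.1
  rw [← map_one X.D.τ]
  refine congrArg _ (funext fun i => ?_)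
  have h := (X.D.χ_τ _ c).symm.trans (hz.2 _ (isRoot_sr X.D.cs X.D.h i))
  exact ((Dat.chr_single i 1 c).trans (zpow_one _)).symm.trans (Units.val_eq_one.1 h)

theorem row_nt {B : Matrix (Fin n) (Fin n) ℤ} {o : ℕ} (ho : 0 < o) (h1 : B ^ o = 1) (h : Nt.HasNT hp r ((r : ℤ) ^ e • B) 1 S)
    (he : 0 < e) (hr : 2 ≠ r) (hZ : ZD 1 S) : RowP 2 S := fun K _ _ σ I b D H => by
  obtain ⟨k, _, _, _, X, -, ⟨s⟩⟩ := h
  obtain ⟨h2, h3⟩ := bz_bot (X := X.D) boxLie F2.boxF2.f1 hr.symm he (B := B) (congrArg (· • B) (Nat.cast_pow r e).symm) ho h1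
    fun z hz _ _ => zc_one X hz
  have := (X.D.pow one_pos).amb.finite_GF ⊤
  have h4 : Function.Bijective σ := ⟨(MonoidHom.ker_eq_bot_iff σ).1 (H.ker.trans (card_eq_one.1
    (Nat.dvd_one.1 (hZ K σ H.qs.1.commutator_eq_top H.surj H.ker H.cyc)))), H.surj⟩
  let f : ↥(GF (X.F ^ 1) ⊤) ≃* K := ((MulEquiv.subgroupCongr ((Bz.gf_one X.F ⊤).trans s.H0_eq.symm)).trans
    (MonoidHom.ofInjective s.ov.inj).symm).trans (MulEquiv.ofBijective σ h4).symm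
  have h5 : f.toMonoidHom.ker = ⊥ := (MonoidHom.ker_eq_bot_iff _).2 f.injective
  exact Cl.Hyp.not_of_bx (X := XP) H (boxDom f.toMonoidHom ⊥ H.hM f.surjective (h5.le.trans bot_le) bot_le IsPGroup.of_bot
    (by rw [h5, relIndex_self]; decide) (h3 ▸ h2 I H.hM))

variable {Adm : Matrix (Fin 6) (Fin 6) ℤ → Prop} {d : ℕ}

theorem row6 {B : Matrix (Fin 6) (Fin 6) ℤ} (hB : B = 1 ∨ B = P6) (h : HasSc hpE6 r ((r : ℤ) ^ e • B) Adm 3 d S) (he : 0 < e)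
    (hr : 2 ≠ r) {A : Type} [CommGroup A] (hA : HasSchurMultiplier S A) (hd : ¬ r ∣ Nat.card A) : RowP 2 S := by
  obtain ⟨k, _, _, _, X, t, -, Y, _, N, _, _, ρ, F, X', θ, s, ⟨I⟩, h1, -⟩ := h
  have : Fact (Nat.Prime 2) := ⟨Nat.prime_two⟩
  obtain ⟨ε, w, h2, h3⟩ : ∃ (ε : ℤ) (w : X.D.W), ε ^ 2 = 1 ∧ X.D.Mx = ((r : ℤ) ^ e * ε) • X.D.Wm w := hB.elim
    (fun h => ⟨1, 1, rfl, by rw [X.D.Wm_one, mul_one]; exact congrArg ((r : ℤ) ^ e • ·) h⟩) fun h =>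
      let ⟨w, hw⟩ := X.exists_neg_E6
      ⟨-1, w, rfl, ((congrArg ((r : ℤ) ^ e • ·) h).trans (neg_smul_neg _ P6).symm).trans (congrArg₂ (· • ·) (mul_neg_one _).symm hw.symm)⟩
  obtain ⟨w', h4⟩ := R7.down I w
  have h5 : ∀ a : ℕ, X'.Wm w' ^ a = X'.Wm (w' ^ a) := fun a => by
    induction a with
    | zero => rw [pow_zero, pow_zero, X'.Wm_one]
    | succ a ih => rw [pow_succ, pow_succ, X'.Wm_mul, ih]
  refine boxScz X' S s 2 hr (bz_bot boxLie F2.boxF2.f1 hr.symm he (B := ε • X'.Wm w') (o := 2 * orderOf w')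
    (R7.mat_ext fun v => I.P_inj ?_) (mul_pos two_pos (orderOf_pos w')) ?_ fun z hz j hj => ?_).1 A hA fun n k1 k2 =>
      absurd ((k1.trans k2).trans Group.exponent_dvd_nat_card) hd
  · rw [← I.Mx_P, h3, smul_smul, smul_mulVec, smul_mulVec, mulVec_smul, h4, Nat.cast_pow]
  · rw [_root_.smul_pow, pow_mul, h2, one_pow, one_smul, h5, mul_comm, pow_mul, pow_orderOf_eq_one, one_pow, X'.Wm_one]
  · have h6 := I.pow_eq_one (y := z) trivial (h1.ge (mem_center_iff.2 fun g => Bz.Zc_cen hz g trivial))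
    exact orderOf_eq_one_iff.1 (Nat.eq_one_of_dvd_coprimes (Nat.Coprime.pow_right j (by norm_num : Nat.Coprime 3 2))
      (orderOf_dvd_of_pow_eq_one h6) (orderOf_dvd_of_pow_eq_one hj))

theorem odd_card {F : Type} [Field F] [Fintype F] (h : ((2 : ℕ) : F) ≠ 0) {j : ℕ} (hj : 0 < j) : Fintype.card F ≠ 2 ^ j := fun e =>
  h (pow_eq_zero_iff hj.ne' |>.1 (by rw [← Nat.cast_pow, ← e, FiniteField.cast_card_eq_zero]))

end Al

open Al

/-- **the exceptional groups at the prime two** -/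
theorem ex7 : Ex7 2 where
  g2 := by
    rintro l _ S _ _ _ _ ⟨rfl, h⟩
    obtain ⟨r, e, _, hr, he, -, h1⟩ := Nt.row_G2 h
    obtain ⟨F, _, _, h2, h5, ⟨i⟩⟩ := h
    have h6 := odd_card h2 two_pos
    obtain h7 | h7 : Fintype.card F = 3 ∨ 5 ≤ Fintype.card F := by omega
    · exact RowP.of_equiv i (X.row_g23 F h7)
    · exact row_nt one_pos (one_pow 1) h1 he hr ((TO.X.zd_G2 h7).congr i)
  f4 := by
    rintro l _ S _ _ _ _ ⟨rfl, h⟩
    obtain ⟨r, e, _, hr, he, h1⟩ := Nt.row_F4 h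
    obtain ⟨F, _, _, h2, ⟨i⟩⟩ := h
    exact row_nt one_pos (one_pow 1) h1 he hr ((TO.X.zd_F4 (odd_card h2 one_pos)).congr i)
  e6 := by
    rintro l _ S _ _ _ _ ⟨rfl, F, _, _, h1, ⟨i⟩⟩
    obtain ⟨r, e, _, _, hr, he, hF⟩ := Nt.exists_char F h1
    exact RowP.of_equiv i (row6 (.inl rfl) (sc_E6 hF) he hr (S2105.result hF) (not_dvd_sub Fact.out he 3))
  e7 := ev_e7 boxLie
  e8 := by
    rintro l _ S _ _ _ _ ⟨rfl, h⟩
    obtain ⟨r, e, _, hr, he, h1⟩ := Nt.row_E8 h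
    obtain ⟨F, _, _, -, ⟨i⟩⟩ := h
    exact row_nt one_pos (one_pow 1) h1 he hr (TO.X.zd_E8.congr i)
  te6 := by
    rintro l _ S _ _ _ _ ⟨rfl, F, _, _, q, h1, hq, hF, ⟨i⟩⟩
    obtain ⟨r, e, _, _, hr, he, rfl⟩ := Nt.exists_char' F h1 hq two_ne_zero hF
    exact RowP.of_equiv i (row6 (.inr rfl) (sc_2E6 hF) he hr (S2108.result hq hF fun h2 => odd_card h1 two_pos (h2 ▸ hF))
      (not_dvd_add Fact.out he 3))
  td4 := by
    rintro l _ S _ _ _ _ ⟨rfl, h⟩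
    obtain ⟨r, e, _, hr, he, h1⟩ := Nt.row_3D4 h
    obtain ⟨F, _, _, q, -, hq, hF, ⟨i⟩⟩ := h
    exact row_nt three_pos (by rw [P4_eq]; decide +kernel) h1 he hr ((TO.X.zd_3D4 hq hF).congr i)

end Cfsg.Agent.BZ.E2
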