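import Cfsg.Agent.BZ.E2.Defs
import Cfsg.Agent.BZ.L.Bzr
import Cfsg.Agent.BZ.L.Cs
import Cfsg.Agent.KM.Sc.Lat

/-!
# BZ / E2 : from the boxes to `Bz2` (helper73)

`cs_of`, `nq_two`, `bz_gen`, `bz_bot`, `bz_two`.
-/

set_option autoImplicit false
set_option linter.unusedSectionVars false

namespace Cfsg.Agent.BZ.E2

open Cfsg Subgroup Matrix Cfsg.Agent.DL Cfsg.Agent.KM Cfsg.Agent.KM.Tor Cfsg.Agent.BZ.L Cfsg.Agent.HZ.Gen Cfsg.Agent.BZ.Lab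

variable {p : ℕ} [hp : Fact p.Prime] {k : Type} [Field k] [CharP k p] {Y : Type} [Group Y] {N : Type} [Fintype N]
  [DecidableEq N] {ρ : Y →* GL N k} {F : MulAut Y} {G : Subgroup Y} [IsAlgClosed k] (X : Datum p ρ F G)

namespace Gn

theorem le_of_dvd (h2 : p ≠ 2) {a b : ℕ} {c : ℤ} (h : (p : ℤ) ^ a * c = (p : ℤ) ^ b * 2) : a ≤ b := by
  have h1 : p ^ a ∣ p ^ b * 2 := by
    rw [← Int.natCast_dvd_natCast]
    push_cast
    exact ⟨c, h.symm⟩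
  exact (Nat.pow_dvd_pow_iff_le_right hp.out.one_lt).1
    ((((Nat.coprime_primes hp.out Nat.prime_two).2 h2).pow_left a).dvd_of_dvd_mul_right h1)

theorem val16 {T : ℤ} (h : T % 8 = 5) {j : ℕ} (hj : 2 ^ j ∣ ((T ^ 6 - 1) * (T + 1)).natAbs) : 2 ^ j ≤ 16 := by
  by_contra h1
  have h2 : 5 ≤ j := by
    by_contra h3
    exact h1 ((Nat.pow_le_pow_right two_pos (by omega : j ≤ 4)).trans (by norm_num))
  have h3 : (32 : ℤ) ∣ (T ^ 6 - 1) * (T + 1) := by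
    have := (pow_dvd_pow 2 h2).trans hj
    rwa [← Int.natCast_dvd_natCast, Int.dvd_natAbs] at this
  obtain ⟨a, rfl⟩ : ∃ a, T = 8 * a + 5 := ⟨T / 8, by omega⟩
  have h4 : ((8 * a + 5) ^ 6 - 1) * (8 * a + 5 + 1) = 16 * ((2 * a + 1) * (4 * a + 3) ^ 2 *
      ((64 * a ^ 2 + 88 * a + 31) * (64 * a ^ 2 + 72 * a + 21))) := by ring
  have h5 : Odd ((2 * a + 1) * (4 * a + 3) ^ 2 * ((64 * a ^ 2 + 88 * a + 31) * (64 * a ^ 2 + 72 * a + 21))) :=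
    (Odd.mul ⟨a, rfl⟩ (Odd.pow ⟨2 * a + 1, by ring⟩)).mul (Odd.mul ⟨32 * a ^ 2 + 44 * a + 15, by ring⟩ ⟨32 * a ^ 2 + 36 * a + 10, by ring⟩)
  rw [h4] at h3
  obtain ⟨b, hb⟩ := h5
  omega

theorem pow_mod {t : ℤ} (h : t % 8 = 5) (j : ℕ) : t ^ (1 + 2 * j) % 8 = 5 := by
  induction j with
  | zero => simpa using h
  | succ j ih =>
    rw [show 1 + 2 * (j + 1) = 1 + 2 * j + 1 + 1 by ring, pow_succ, pow_succ, Int.mul_emod, Int.mul_emod (_ ^ _), ih, h]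
    rfl

end Gn

open Gn

/-- the class of a datum in odd characteristic -/
theorem cs_of (h2 : p ≠ 2) {f o : ℕ} (_ : 0 < f) {B : Matrix X.R X.R ℤ} (hB : X.Mx = ((p ^ f : ℕ) : ℤ) • B) (ho : 0 < o)
    (h1 : B ^ o = 1) : ∃ n c, Cs X (p ^ f) n c := by
  have hex : ∀ a, X.Rt a → X.ex a = f := fun a ha => by
    have e := X.wt_g ha
    rw [hB, vecMul_smul, Nat.cast_pow] at e
    refine le_antisymm (le_of_dvd h2 (c := (X.wt a ᵥ* B ^ (o - 1)) ⬝ᵥ X.cor (X.g a)) ?_)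
      (le_of_dvd h2 (c := (X.wt (X.g a) ᵥ* B) ⬝ᵥ X.cor a) ?_)
    · have e1 := congrArg (fun v => (v ᵥ* B ^ (o - 1)) ⬝ᵥ X.cor (X.g a)) e
      simp only [smul_vecMul, vecMul_vecMul, ← pow_succ', Nat.sub_add_cancel ho, h1, vecMul_one, smul_dotProduct, smul_eq_mul,
        Sc.wt_cor (X.g_root a ha)] at e1
      exact e1.symm
    · have e1 := congrArg (fun v => v ⬝ᵥ X.cor a) e
      simpa only [smul_dotProduct, smul_eq_mul, Sc.wt_cor ha] using e1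
  obtain ⟨d, e, L⟩ := PP.exists_lvl X
  have h0 : (p : ℤ) ≠ 0 := Nat.cast_ne_zero.2 hp.out.ne_zero
  have h3 : ∀ w, (p : ℤ) ^ (f * d) • (X.Wm w * B) ^ d = (p : ℤ) ^ e • (1 : Matrix X.R X.R ℤ) := fun w => by
    have := L.pow w
    rwa [hB, mul_smul_comm, _root_.smul_pow, Nat.cast_pow, ← pow_mul] at this
  have h4 : (p : ℤ) ^ (f * d * o) • (1 : Matrix X.R X.R ℤ) = (p : ℤ) ^ (e * o) • 1 := by
    have := congrArg (· ^ o) (h3 1)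
    simpa only [X.Wm_one, one_mul, _root_.smul_pow, ← pow_mul, mul_comm d o, pow_mul B, h1, one_pow, mul_assoc] using this
  refine ⟨d * o, Nat.card X.W + {a | X.Rt a}.ncard + Fintype.card X.R, .of_mat (mul_pos L.d_pos ho) (fun w => ⟨X.Wm w * B, ?_, ?_⟩)
    (fun a ha => by rw [hex a ha]) (by omega) (by omega) (by omega)⟩
  · rw [hB, mul_smul_comm]
  · refine smul_right_injective _ (pow_ne_zero (f * d * o) h0) ?_
    have := congrArg (· ^ o) (h3 w)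
    simp only [_root_.smul_pow, ← pow_mul, one_pow] at this
    exact this.trans h4.symm

theorem nq_two (h2 : p ≠ 2) {f : ℕ} (hf : 0 < f) : ∃ d, Nq p (p ^ f) d 2 := ⟨_, Nat.prime_two, h2.symm, ⟨f, hf, rfl⟩, rfl⟩

variable {X}

theorem zc_conj {y z : Y} (hy : y ∈ G) (hN : y⁻¹ * F y ∈ X.NN) (hz : z ∈ Zc X {a | X.Rt a}) :
    z ∈ Zc (X.conj hy hN) {a | (X.conj hy hN).Rt a} := by
  have e : y * z * y⁻¹ = z := by rw [Bz.Zc_cen hz y hy, mul_inv_cancel_right]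
  refine ⟨?_, fun a ha => ?_⟩
  · obtain ⟨c, hc⟩ := (X.mem_T z).1 hz.1
    rw [← e, ← hc]
    exact (X.conj hy hN).τ_mem c
  · rw [← e, X.conj_χ hy hN a hz.1]
    exact hz.2 a ha

variable {q n c d : ℕ}

/-- the general reduction -/
theorem bz_gen (hL : BoxLie) (hq : Nq p q d 2) (hX : Cs X q n c)
    (h : Lg fun m => ∀ r, Nr q d r m → ∀ [Fintype ↥(GF (F ^ m) G)] (n' N' : ℕ) (α : MulAut ↥(GF (F ^ m) G)) (M : Ideal AlgInt),
      Fm F G 2 m n' N' α → IsPModular 2 M → ∀ y (hy : y ∈ G) (hN : y⁻¹ * F y ∈ X.NN) (D S : Subgroup ↥(GF (F ^ m) G)),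
      Ou 2 (Zl X m 2) D (Pt F G m r (X.conj hy hN).T) (Pt F G m 2 (X.conj hy hN).T) S → ⁅D, D⁆ ≤ Zl X m 2) : Bz2 X := fun M hM =>
  boxDown X q d 2 n c M _ hq hX hM le_rfl (((hL p q d 2 n c hq).and h).mono fun _ ⟨h1, h2⟩ r hr _ n' N' α hF B hB sB hz =>
    let ⟨y, hy, hN, D, S, k1, k2⟩ := h1 r hr X hX n' N' α M hF hM _ B le_rfl hB sB hz
    ⟨D, k1, h2 r hr n' N' α M hF hM y hy hN D S k2⟩)

theorem zl_bot (hz : ∀ z ∈ Zc X {a | X.Rt a}, ∀ j : ℕ, z ^ 2 ^ j = 1 → z = 1) (m : ℕ) : Zl X m 2 = ⊥ :=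
  eq_bot_iff.2 ((closure_le _).2 fun g ⟨h1, j, h2⟩ => mem_bot.2 (Subtype.ext (hz g h1 j (congrArg Subtype.val h2))))

/-- the centre has odd order -/
theorem bz_bot (hL : BoxLie) (hF : BoxF1) (h2 : p ≠ 2) {f o : ℕ} (hf : 0 < f) {B : Matrix X.R X.R ℤ}
    (hB : X.Mx = ((p ^ f : ℕ) : ℤ) • B) (ho : 0 < o) (h1 : B ^ o = 1)
    (hz : ∀ z ∈ Zc X {a | X.Rt a}, ∀ j : ℕ, z ^ 2 ^ j = 1 → z = 1) : Bz2 X ∧ Zl X 1 2 = ⊥ := by
  obtain ⟨n, c, hX⟩ := cs_of X h2 hf hB ho h1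
  obtain ⟨d, hq⟩ := nq_two h2 hf
  refine ⟨bz_gen hL hq hX ((hF p _ d 2 n c hq).mono fun m h r hr _ n' N' α M k1 k2 y hy hN D S o => ?_), zl_bot hz 1⟩
  rw [zl_bot hz] at o ⊢
  exact h r hr (X.conj hy hN) (hX.conj hy hN) n' N' α M k1 k2 rfl D S o

variable (X) in
/-- the lattice statement in the simply connected frame -/
def Ls : Prop := ∀ (w v : X.W) (u y : X.R → ℤ) (b : X.I → ℤ), Rl X (X.Wm w) (X.Wm v) u y b →
  (∀ x, X.Wm w *ᵥ x = x → ∃ c : ℤ, x = c • u) ∧ ∀ t : ℤ, (t • X.Wm w - 1).det.natAbs = ((t ^ 6 - 1) * (t + 1)).natAbs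

theorem Ls.conj (h : Ls X) {y : Y} (hy : y ∈ G) (hN : y⁻¹ * F y ∈ X.NN) : Ls (X.conj hy hN) := fun w v u z b R => by
  rw [CsA.conj_Wm, CsA.conj_Wm] at R
  rw [CsA.conj_Wm]
  exact h w v u z b ⟨R.fu, R.vu, R.ce, R.pr, R.rf, R.fy, R.rt, R.pb, R.od⟩

/-- the residual case dies -/
theorem Rs.kill (h : Ls X) {t : ℤ} {w : X.W} (hw : X.Mx = t • X.Wm w) {m r : ℕ} (hm : 0 < m) (e : m ≡ 1 [MOD 2 * Nat.card X.W])
    {Z D S : Subgroup ↥(GF (F ^ m) G)} (o : Ou 2 Z D (Pt F G m r X.T) (Pt F G m 2 X.T) S)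
    (R : Rs X t Z D (Pt F G m r X.T) (Pt F G m 2 X.T)) : ⁅D, D⁆ ≤ Z := by
  obtain ⟨v, u, y, b, h1, h2⟩ := R.ex _ hw
  obtain ⟨h3, h4⟩ := h w v u y b h1
  have := (X.pow hm).amb.finite_GF G
  have : Fact (Nat.Prime 2) := ⟨Nat.prime_two⟩
  obtain ⟨j, hj⟩ := IsPGroup.iff_card.1 (o.res.pg.to_le o.res.le)
  obtain ⟨i, hi⟩ := (Nat.modEq_iff_dvd' hm).1 e.symm
  obtain rfl : m = 1 + 2 * (Nat.card X.W * i) := by rw [← mul_assoc]; omega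
  have h5 : X.Wm w ^ (1 + 2 * (Nat.card X.W * i)) = X.Wm w := by
    have h6 : ∀ a : ℕ, X.Wm w ^ a = X.Wm (w ^ a) := fun a => by
      induction a with
      | zero => rw [pow_zero, pow_zero, X.Wm_one]
      | succ a ih => rw [pow_succ, pow_succ, X.Wm_mul, ih]
    rw [h6, pow_add, mul_left_comm, pow_mul, pow_card_eq_one', one_pow, mul_one, pow_one]
  have h6 : Nat.card (Pt F G (1 + 2 * (Nat.card X.W * i)) 2 X.T) ≤ 16 := by
    rw [hj]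
    refine val16 (pow_mod R.t8 (Nat.card X.W * i)) ?_
    have h7 := (X.pow hm).card_TF
    rw [show (X.pow hm).Mx = X.Mx ^ (1 + 2 * (Nat.card X.W * i)) from rfl, hw, _root_.smul_pow, h5, h4] at h7
    rw [← h7, ← hj, ← card_map_of_injective (GF _ G).subtype_injective]
    refine card_dvd_of_le ?_
    rintro _ ⟨g, hg, rfl⟩
    exact ⟨(closure_le (X.T.subgroupOf _)).2 (fun _ h => h.1) hg, g.2⟩
  have h7 := R.cq
  exact o.nb rfl (h2 h3) (by rw [R.cz]; omega) (by rw [R.cd, R.cz]; omega)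

/-- the centre has at most one involution and the lattice is that of `E₇` -/
theorem bz_two (hL : BoxLie) (hF : BoxF2) (h2 : p ≠ 2) {f : ℕ} (hf : 0 < f) (hB : X.Mx = ((p ^ f : ℕ) : ℤ) • 1)
    (hn : ∃ w, X.Wm w = -1) (hz : Nat.card (Zc X {a | X.Rt a}) ≤ 2) [Finite (Zc X {a | X.Rt a})] (h : Ls X) : Bz2 X := by
  obtain ⟨n, c, hX⟩ := cs_of X h2 hf hB one_pos (one_pow 1)
  obtain ⟨d, hq⟩ := nq_two h2 hf
  obtain ⟨w₀, h0⟩ := hn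
  have hW : 2 * Nat.card X.W ≠ 0 := mul_ne_zero two_ne_zero Nat.card_pos.ne'
  have hl : Lg fun m => 0 < m ∧ m ≡ 1 [MOD 2 * Nat.card X.W] := ⟨0, _, hW, fun _ _ h1 h2 => ⟨h1, h2⟩⟩
  refine bz_gen hL hq hX (((hF p _ d 2 n c hq).and hl).mono fun m ⟨k0, k3, k4⟩ r hr _ n' N' α M k1 k2 y hy hN D S o => ?_)
  have h3 : ∀ z ∈ Zl X m 2, (z : Y) ∈ Zc X {a | X.Rt a} := fun z hz => ((Bz.pt_eq le_rfl m 2).le hz).1
  refine (k0 r hr (X.conj hy hN) (hX.conj hy hN) n' N' α M k1 k2 rfl _ D S (fun z hz => zc_conj hy hN (h3 z hz))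
    ((Nat.card_le_card_of_injective (fun z : Zl X m 2 => (⟨z.1, h3 z.1 z.2⟩ : Zc X {a | X.Rt a}))
      fun a b e => Subtype.ext (Subtype.ext (Subtype.mk.inj e))).trans hz) o).elim id fun R => ?_
  obtain ⟨w, hw⟩ : ∃ w, (X.conj hy hN).Mx = tq (p ^ f) • X.Wm w := by
    rw [X.conj_Mx, hB, mul_smul_comm, mul_one, tq]
    split_ifs
    · exact ⟨_, rfl⟩
    · exact ⟨X.pr (y⁻¹ * F y) * w₀, by rw [X.Wm_mul, h0, mul_neg, mul_one, neg_smul_neg]⟩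
  exact R.kill (h.conj hy hN) (hw.trans (congrArg _ (CsA.conj_Wm hy hN w).symm)) k3 k4 o

end Cfsg.Agent.BZ.E2
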