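import Cfsg.Agent.BZ.L.Lie
import Cfsg.Agent.KM.Tor.Bad2
import Cfsg.Agent.KZ.DatX.Weyl

/-!
# BZ / E2 : the exceptional groups at the prime two, definitions and boxes (helper73)

* `tq q` : the sign of `q` with `tq q ≡ 1` modulo four; `Rl`, `Rs` : the residual case;
* `BoxF2` : the output of the engine forces `[D, D] ≤ Z` up to the residual case;
* `L7`, `BoxL7`, `BoxSp` : the lattice of `E₇`; `Bz2` : the target for a datum.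
-/

set_option autoImplicit false
set_option linter.unusedSectionVars false

namespace Cfsg.Agent.BZ.E2

open Cfsg Cfsg.Lie Subgroup Matrix Cfsg.Agent.DL Cfsg.Agent.KM Cfsg.Agent.KM.Tor Cfsg.Agent.BZ.L Cfsg.Agent.KZ.DatX

/-- `ε q` -/
def tq (q : ℕ) : ℤ := if q % 4 = 1 then q else -q

section Dat

variable {p : ℕ} [Fact p.Prime] {k : Type} [Field k] [CharP k p] {Y : Type} [Group Y] {N : Type} [Fintype N]
  [DecidableEq N] {ρ : Y →* GL N k} {F : MulAut Y} {G : Subgroup Y} [IsAlgClosed k] (X : Datum p ρ F G)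

/-- the lattice data of the residual case : `V` is a special reflection of the fixed lattice of `B`, `u (-1)` is central and not
trivial, the involution `y (-1)` is fixed and it is not central in the Levi subgroup of the fixed lattice -/
structure Rl (B V : Matrix X.R X.R ℤ) (u y : X.R → ℤ) (b : X.I → ℤ) : Prop where
  fu : B *ᵥ u = u
  vu : V *ᵥ u = -u
  ce : ∀ a, X.Rt a → 2 ∣ X.wt a ⬝ᵥ u
  pr : ∀ x, u ≠ (2 : ℤ) • x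
  rf : ∀ x, B *ᵥ x = x → ∃ c : ℤ, V *ᵥ x = x - (2 * c) • u
  fy : ∃ x, B *ᵥ y = y + (2 : ℤ) • x
  rt : X.Rt b
  pb : ∀ x, B *ᵥ x = x → X.wt b ⬝ᵥ x = 0
  od : ¬ 2 ∣ X.wt b ⬝ᵥ y

/-- **the residual case** -/
structure Rs (t : ℤ) {K : Type} [Group K] (Z D P Q : Subgroup K) : Prop where
  t8 : t % 8 = 5
  cz : Nat.card Z = 2
  cd : Nat.card D = 2 * Nat.card Q
  cq : 16 ≤ Nat.card Q
  ex : ∀ B, X.Mx = t • B → ∃ (v : X.W) (u y : X.R → ℤ) (b : X.I → ℤ), Rl X B (X.Wm v) u y b ∧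
    ((∀ x, B *ᵥ x = x → ∃ c : ℤ, x = c • u) → (centralizer (P : Set K)).relIndex (normalizer (P : Set K)) = 2)

/-- the lattice statement in the adjoint frame; `ω` is half of `u` -/
def L7 : Prop := ∀ (w v : X.W) (ω y : X.R → ℤ) (b : X.I → ℤ), X.Wm w *ᵥ ω = ω → X.Wm v *ᵥ ω = -ω → ¬ InQ X ω →
  (∀ x, InQ X x → X.Wm w *ᵥ x = x → ∃ c : ℤ, X.Wm v *ᵥ x = x - (4 * c) • ω) → InQ X y →
  (∃ x, InQ X x ∧ X.Wm w *ᵥ y = y + (2 : ℤ) • x) → X.Rt b → (∀ x, X.Wm w *ᵥ x = x → X.wt b ⬝ᵥ x = 0) → ¬ 2 ∣ X.wt b ⬝ᵥ y →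
  (∀ x, X.Wm w *ᵥ x = x → ∃ c : ℤ, x = c • ω) ∧ ∀ t : ℤ, (t • X.Wm w - 1).det = (t ^ 6 - 1) * (t + 1)

/-- the target for a datum -/
def Bz2 : Prop := ∀ M, IsPModular 2 M → BZr 2 M ↥(GF (F ^ 1) G) (Zl X 1 2)

end Dat

/-- **[F2]** -/
def BoxF2 : Prop := Unif fun {_} _ _ _ _ {Y} _ _ _ _ _ {F} {G} _ X q _ l r m _ _ _ => l = 2 →
  ∀ Z D S : Subgroup ↥(GF (F ^ m) G), (∀ z ∈ Z, (z : Y) ∈ Zc X {a | X.Rt a}) → Nat.card Z ≤ 2 →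
    Ou 2 Z D (Pt F G m r X.T) (Pt F G m 2 X.T) S → ⁅D, D⁆ ≤ Z ∨ Rs X (tq q) Z D (Pt F G m r X.T) (Pt F G m 2 X.T)

/-- [F2] for `Z = 1` -/
def BoxF1 : Prop := Unif fun {_} _ _ _ _ _ _ _ _ _ _ {F} {G} _ X _ _ l r m _ _ _ => l = 2 →
  ∀ D S : Subgroup ↥(GF (F ^ m) G), Ou 2 ⊥ D (Pt F G m r X.T) (Pt F G m 2 X.T) S → ⁅D, D⁆ ≤ ⊥

/-- **[L7]** -/
def BoxL7 : Prop := AllX hpE7 fun X => L7 X

/-- [Sp] signed permutations of six letters -/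
def BoxSp : Prop := ∀ (σ : Equiv.Perm (Fin 6)) (s c β : Fin 6 → ℤ), (∀ i, s i = 1 ∨ s i = -1) → (∀ i, ¬ 2 ∣ c i) →
  (∀ i, c (σ i) = s i * c i) → (∀ i, β i = 1 ∨ β i = -1) → (∀ z : Fin 6 → ℤ, (∀ i, z (σ i) = s i * z i) → β ⬝ᵥ z = 0) →
  (∀ z : Fin 6 → ℤ, (∀ i, z (σ i) = s i * z i) → 2 ∣ ∑ i, z i → c ⬝ᵥ c ∣ c ⬝ᵥ z) →
  (∀ z : Fin 6 → ℤ, (∀ i, z (σ i) = s i * z i) → ∃ n : ℤ, z = n • c) ∧
    ∀ t : ℤ, (t • (Matrix.of fun i j => if i = σ j then s j else 0) - 1 : Matrix (Fin 6) (Fin 6) ℤ).det = 1 - t ^ 6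

theorem BoxF2.f1 (h : BoxF2) : BoxF1 := fun p _ q d l n c hq => (h p q d l n c hq).mono
  fun _ h r hr _ _ _ _ _ _ _ _ _ _ _ _ X hX _ n' N' α M hF hM hl D S o =>
    (h r hr X hX n' N' α M hF hM hl ⊥ D S (fun z hz => by rw [mem_bot.1 hz]; exact one_mem _) (by simp) o).resolve_right
      fun e => by simpa using e.cz

end Cfsg.Agent.BZ.E2
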