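import Cfsg.Agent.BZ.E2.Gen
import Cfsg.Agent.KM.Sc.E3
import Cfsg.Agent.KM.Tor.K6
import Cfsg.Agent.KM.Tor.E6a

/-!
# BZ / E2 : the row `E₇` at the prime two (helper73)

`R7.ls_of`, `R7.zc_inj`, `row_e7`.
-/

set_option autoImplicit false
set_option linter.unusedSectionVars false

namespace Cfsg.Agent.BZ.E2

open Cfsg Cfsg.Lie Subgroup Matrix Cfsg.Agent.DL Cfsg.Agent.KM Cfsg.Agent.KM.Tor Cfsg.Agent.BZ.L Cfsg.Agent.KZ.DatX
  Cfsg.Agent.KM.Sc Cfsg.Agent.Nodes.RGDChev Cfsg.Agent.ChevalleyStructure.NPerm Cfsg.Agent.ChevalleyStructure.CoxeterGeomTypes Cfsg.Agent.Tits.Roots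

namespace R7

section Gen

variable {p : ℕ} [Fact p.Prime] {k : Type} [Field k] [CharP k p] [IsAlgClosed k]
  {Y' : Type} [Group Y'] {N' : Type} [Fintype N'] [DecidableEq N'] {ρ' : Y' →* GL N' k} {F' : MulAut Y'}
  {G' : Subgroup Y'} {Y : Type} [Group Y] {N : Type} [Fintype N] [DecidableEq N] {ρ : Y →* GL N k} {F : MulAut Y}
  {G : Subgroup Y} {X' : Datum p ρ' F' G'} {X : Datum p ρ F G} {θ : Y' →* Y} {z : ℕ} (I : Isog X' X θ z)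

theorem mat_ext {R S : Type} [Fintype S] [DecidableEq S] {A B : Matrix R S ℤ} (h : ∀ v, A *ᵥ v = B *ᵥ v) : A = B :=
  Matrix.ext fun i j => by simpa using congrFun (h (Pi.single j 1)) i

theorem det_isog {A : Matrix X.R X.R ℤ} {A' : Matrix X'.R X'.R ℤ} (h : ∀ v, I.P *ᵥ (A' *ᵥ v) = A *ᵥ (I.P *ᵥ v)) : A'.det = A.det := by
  have hz : (z : ℤ) ≠ 0 := Int.natCast_ne_zero.2 I.pos.ne'
  have h1 := trace_mul_comm I.P I.Q
  rw [I.PQ, I.QP, trace_smul, trace_smul, trace_one, trace_one] at h1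
  obtain ⟨e⟩ : Nonempty (X.R ≃ X'.R) := Fintype.card_eq.1 (Nat.cast_injective (mul_left_cancel₀ hz h1))
  have h2 : I.P * A' = A * I.P := mat_ext fun v => by rw [← mulVec_mulVec, ← mulVec_mulVec, h]
  have h3 : (I.P.submatrix id e).det ≠ 0 := fun e0 => by
    have h4 := congrArg det (submatrix_mul_equiv I.P I.Q id e id)
    rw [det_mul, e0, zero_mul, submatrix_id_id, I.PQ, det_smul, det_one, mul_one] at h4
    exact pow_ne_zero _ hz h4.symm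
  have h4 := congrArg det (submatrix_mul_equiv I.P A' id e e)
  rw [h2, det_mul, det_submatrix_equiv_self, show (A * I.P).submatrix id e = A * I.P.submatrix id e from rfl, det_mul,
    mul_comm] at h4
  exact mul_right_cancel₀ h3 h4

theorem up (w' : X'.W) : ∃ w, ∀ u, X.Wm w *ᵥ (I.P *ᵥ u) = I.P *ᵥ (X'.Wm w' *ᵥ u) := by
  obtain ⟨m, hm, -⟩ := X'.exists_rp w'
  obtain ⟨w, hw⟩ := I.map_mem_NN ⟨_, hm⟩
  exact ⟨w, I.Wm_P hm hw⟩

theorem down (w : X.W) : ∃ w', ∀ u, X.Wm w *ᵥ (I.P *ᵥ u) = I.P *ᵥ (X'.Wm w' *ᵥ u) := by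
  obtain ⟨m, hm, -⟩ := X.exists_rp w
  obtain ⟨y, hy, rfl⟩ := I.surj m (X.NN_le_G ⟨w, hm⟩)
  obtain ⟨w', h⟩ := I.mem_NN hy ⟨w, hm⟩
  exact ⟨w', I.Wm_P h hm⟩

end Gen

variable {r : ℕ} [Fact r.Prime] {k : Type} [Field k] [CharP k r] [IsAlgClosed k] {Mx : Matrix (Fin 7) (Fin 7) ℤ} (X : XF hpE7 r k Mx)

theorem inQ_iff (x : Fin 7 → ℤ) : InQ X.D x ↔ 2 ∣ x 1 + x 4 + x 6 := by
  have hA : cartanOf chevE7 7 = ![![2, 0, -1, 0, 0, 0, 0], ![0, 2, 0, -1, 0, 0, 0], ![-1, 0, 2, -1, 0, 0, 0],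
    ![0, -1, -1, 2, -1, 0, 0], ![0, 0, 0, -1, 2, -1, 0], ![0, 0, 0, 0, -1, 2, -1], ![0, 0, 0, 0, 0, -1, 2]] := by decide +kernel
  refine ⟨fun ⟨β, e⟩ => ?_, fun h => ⟨![2 * x 0 + 2 * x 1 + 3 * x 2 + 4 * x 3 + 3 * x 4 + 2 * x 5 + x 6,
    (4 * x 0 + 7 * x 1 + 8 * x 2 + 12 * x 3 + 9 * x 4 + 6 * x 5 + 3 * x 6) / 2,
    3 * x 0 + 4 * x 1 + 6 * x 2 + 8 * x 3 + 6 * x 4 + 4 * x 5 + 2 * x 6,
    4 * x 0 + 6 * x 1 + 8 * x 2 + 12 * x 3 + 9 * x 4 + 6 * x 5 + 3 * x 6,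
    (6 * x 0 + 9 * x 1 + 12 * x 2 + 18 * x 3 + 15 * x 4 + 10 * x 5 + 5 * x 6) / 2,
    2 * x 0 + 3 * x 1 + 4 * x 2 + 6 * x 3 + 5 * x 4 + 4 * x 5 + 2 * x 6,
    (2 * x 0 + 3 * x 1 + 4 * x 2 + 6 * x 3 + 5 * x 4 + 4 * x 5 + 3 * x 6) / 2], Eq.trans ?_ (K6.cl_co X _).symm⟩⟩
  · have h : ∃ γ : Fin 7 → ℤ, x = co chevE7 7 γ := ⟨β, e.trans (K6.cl_co X β)⟩
    obtain ⟨γ, rfl⟩ := h
    simp [co, hA, Fin.sum_univ_seven]
    omega
  · funext j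
    fin_cases j <;> simp [co, hA, Fin.sum_univ_seven] <;> omega

variable {Y' : Type} [Group Y'] {N' : Type} [Fintype N'] [DecidableEq N'] {ρ' : Y' →* GL N' k} {F' : MulAut Y'}
  {G' : Subgroup Y'} {X' : Datum r ρ' F' G'} {θ : Y' →* ↥(chevE7.group k)} {X} (I : Isog X' X.D θ 2)

theorem half {u : X'.R → ℤ} (h : ∀ a, X'.Rt a → 2 ∣ X'.wt a ⬝ᵥ u) : ∃ ω : X.D.R → ℤ, I.P *ᵥ u = (2 : ℤ) • ω := by
  have h1 : ∀ i : X.D.R, 2 ∣ (I.P *ᵥ u) i := fun i => by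
    obtain ⟨a, ha, e⟩ := I.root' _ (isRoot_sr X.D.cs X.D.h i)
    have h2 := h a ha
    rw [e, ← dotProduct_mulVec] at h2
    exact h2.trans (Eq.dvd ((single_dotProduct (I.P *ᵥ u) 1 i).trans (one_mul _)))
  choose ω hω using h1
  exact ⟨ω, funext hω⟩

theorem two_inj {R : Type} {x y : R → ℤ} (h : (2 : ℤ) • x = (2 : ℤ) • y) : x = y := smul_right_injective _ two_ne_zero h

/-- the lattice statement passes to the simply connected frame -/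
theorem ls_of (hR : I.Rg) (h : L7 X.D) : Ls X' := fun w' v' u y b' R => by
  obtain ⟨w, hw⟩ := up I w'
  obtain ⟨v, hv⟩ := up I v'
  obtain ⟨ω, hω⟩ := half I R.ce
  obtain ⟨b, hb, e⟩ := I.root b' R.rt
  obtain ⟨x, hx⟩ := R.fy
  have h0 : ¬ InQ X.D ω := fun h1 => by
    obtain ⟨x, rfl⟩ := (hR _).1 h1
    exact R.pr x (I.P_inj (hω.trans (mulVec_smul _ _ _).symm))
  obtain ⟨h1, h2⟩ := h w v ω (I.P *ᵥ y) b (two_inj (by rw [← mulVec_smul, ← hω, hw, R.fu]))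
    (two_inj (by rw [← mulVec_smul, smul_neg, ← hω, hv, R.vu, mulVec_neg])) h0 (fun x k1 k2 => by
      obtain ⟨x, rfl⟩ := (hR _).1 k1
      obtain ⟨c, hc⟩ := R.rf x (I.P_inj ((hw x).symm.trans k2))
      exact ⟨c, by rw [hv, hc, mulVec_sub, mulVec_smul, hω, smul_smul]; congr 2; ring⟩) ((hR _).2 ⟨y, rfl⟩)
    ⟨I.P *ᵥ x, (hR _).2 ⟨x, rfl⟩, by rw [hw, hx, mulVec_add, mulVec_smul]⟩ hb (fun x k => by
      have k1 := R.pb (I.Q *ᵥ x) (I.P_inj (by rw [← hw, I.PQ_vec, mulVec_smul, k]))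
      rw [e, ← dotProduct_mulVec, I.PQ_vec, dotProduct_smul, smul_eq_mul] at k1
      exact (mul_eq_zero.1 k1).resolve_left (by norm_num)) (by
      have k1 := R.od
      rwa [e, ← dotProduct_mulVec] at k1)
  refine ⟨fun x k => ?_, fun t => ?_⟩
  · obtain ⟨c, hc⟩ := h1 (I.P *ᵥ x) (by rw [hw, k])
    have k1 := (inQ_iff X _).1 (hc ▸ (hR _).2 ⟨x, rfl⟩)
    have k2 := mt (inQ_iff X ω).2 h0
    obtain ⟨d, rfl⟩ : 2 ∣ c := (Int.prime_two.dvd_or_dvd (k1.trans (Eq.dvd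
      ((congrArg (· + _) (mul_add c _ _).symm).trans (mul_add c _ _).symm)))).resolve_right k2
    exact ⟨d, I.P_inj (by rw [hc, mulVec_smul, hω, smul_smul, mul_comm])⟩
  · rw [← h2 t, det_isog I (A := t • X.D.Wm w - 1) fun x => by
      rw [sub_mulVec, sub_mulVec, one_mulVec, one_mulVec, smul_mulVec, smul_mulVec, mulVec_sub, mulVec_smul, hw]]

/-- the kernel has at most two elements -/
theorem ker_eq (hR : I.Rg) {x : Y'} (hx : x ∈ G') (e : θ x = 1) (h1 : x ≠ 1) :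
    ∃ (u : X'.R → ℤ) (ω : Fin 7 → ℤ), x = X'.τ (coch u (-1)) ∧ orderOf (-1 : kˣ) = 2 ∧ I.P *ᵥ u = (2 : ℤ) • ω ∧ ¬ 2 ∣ ω 1 + ω 4 + ω 6 := by
  obtain ⟨ζ, u, -, h2, rfl⟩ := TO.X.Cn.exists_exp X' (I.ker x hx e)
  rcases (Nat.dvd_prime Nat.prime_two).1 (h2.trans (orderOf_dvd_of_pow_eq_one (I.pow_eq_one hx e))) with h3 | h3
  · exact absurd (by rw [orderOf_eq_one_iff.1 h3, map_one, map_one]) h1
  have h4 : ζ = -1 := by
    have h5 : (ζ : k) * ζ = 1 := by rw [← Units.val_mul, ← sq, ← h3, pow_orderOf_eq_one, Units.val_one]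
    refine (mul_self_eq_one_iff.1 h5).elim (fun h6 => ?_) fun h6 => Units.ext h6
    rw [Units.val_eq_one.1 h6, orderOf_one] at h3
    exact absurd h3 (by norm_num)
  subst h4
  rw [I.tau_coch, ← map_one X.D.τ] at e
  choose ω hω using fun j => show (2 : ℤ) ∣ (I.P *ᵥ u) j from
    (congrArg Nat.cast h3).symm.dvd.trans (orderOf_dvd_iff_zpow_eq_one.2 (congrFun (X.D.τ_inj e) j))
  refine ⟨u, ω, rfl, h3, funext hω, fun h5 => h1 ?_⟩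
  obtain ⟨x, hx⟩ := (hR _).1 ((inQ_iff X ω).2 h5)
  have h6 : u = 0 + (orderOf (-1 : kˣ) : ℤ) • x := I.P_inj (by rw [h3, zero_add, mulVec_smul, hx]; exact funext hω)
  rw [E6.τ_eq_iff.2 ⟨x, h6⟩, ← map_one X'.τ]
  exact congrArg _ (funext fun _ => zpow_zero _)

theorem ker_inj (hR : I.Rg) {x y : Y'} (hx : x ∈ G') (e : θ x = 1) (h1 : x ≠ 1) (hy : y ∈ G') (e' : θ y = 1) (h2 : y ≠ 1) : x = y := by
  obtain ⟨u, ω, rfl, h3, h4, h5⟩ := ker_eq I hR hx e h1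
  obtain ⟨u', ω', rfl, -, h6, h7⟩ := ker_eq I hR hy e' h2
  obtain ⟨x, hx⟩ := (hR _).1 ((inQ_iff X (ω - ω')).2 (by simp only [Pi.sub_apply]; omega))
  refine E6.τ_eq_iff.2 ⟨x, I.P_inj ?_⟩
  rw [h3, mulVec_add, mulVec_smul, hx, h4, h6]
  exact (add_sub_cancel ((2 : ℤ) • ω') _).symm.trans (congrArg _ (smul_sub _ _ _).symm)

variable {Adm : Matrix (Fin 7) (Fin 7) ℤ → Prop} {d : ℕ} {S : Type} [Group S]

theorem row (hL : BoxLie) (hF : BoxF2) (h7 : BoxL7) {e : ℕ} (he : 0 < e) (h : HasSc hpE7 r ((r : ℤ) ^ e • 1) Adm 2 d S) (hr : 2 ≠ r)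
    {A : Type} [CommGroup A] (hA : HasSchurMultiplier S A) (hd : ¬ r ∣ Nat.card A) : RowP 2 S := by
  obtain ⟨k, _, _, _, X, t, -, Y, _, N, _, _, ρ, F, X', θ, s, ⟨I⟩, h1, -⟩ := h
  have : Fact (Nat.Prime 2) := ⟨Nat.prime_two⟩
  have hR : I.Rg := I.rg s.pi1 two_ne_zero fun (v : Fin 7 → ℤ) => (inQ_iff X _).2 (by
    show 2 ∣ 2 * v 1 + 2 * v 4 + 2 * v 6
    omega)
  have h2 : Function.Injective fun z : Zc X' {a | X'.Rt a} => (z : Y) = 1 := fun a b e => Subtype.ext (by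
    have k : ∀ z : Zc X' {a | X'.Rt a}, θ z = 1 := fun z => h1.ge (mem_center_iff.2 fun g => Bz.Zc_cen z.2 g trivial)
    by_cases h3 : (a : Y) = 1
    · exact h3.trans (e.mp h3).symm
    · exact ker_inj I hR trivial (k a) h3 trivial (k b) fun h4 => h3 (e.mpr h4))
  have := Finite.of_injective _ h2
  refine boxScz X' S s 2 hr (bz_two hL hF hr.symm he (mat_ext fun v => I.P_inj ?_) ?_
    ((Nat.card_le_card_of_injective _ h2).trans (by simp)) (ls_of I hR (h7 r k _ X))) A hA fun n k1 k2 =>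
      absurd ((k1.trans k2).trans Group.exponent_dvd_nat_card) hd
  · rw [← I.Mx_P, smul_mulVec, one_mulVec, mulVec_smul, Nat.cast_pow]
    exact (smul_mulVec _ _ _).trans (congrArg _ (one_mulVec _))
  · obtain ⟨w, hw⟩ := X.exists_neg_E7
    obtain ⟨w', h3⟩ := down I w
    refine ⟨w', mat_ext fun v => I.P_inj ?_⟩
    rw [← h3, neg_mulVec, one_mulVec, mulVec_neg]
    exact (congrArg (· *ᵥ (I.P *ᵥ v)) hw).trans ((neg_mulVec _ _).trans (congrArg _ (one_mulVec _)))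

end R7

/-- **the row `E₇` at the prime two** -/
theorem row_e7 (hL : BoxLie) (hF : BoxF2) (h7 : BoxL7) : For RowP (Ev CE7) := by
  rintro l _ S _ _ _ _ ⟨rfl, F, _, _, h1, ⟨i⟩⟩
  obtain ⟨r, e, _, _, hr, he, hF'⟩ := Nt.exists_char F h1
  exact RowP.of_equiv i (R7.row hL hF h7 he (sc_E7 hF') hr (S2106.result hF') (not_dvd_sub Fact.out he 2))

end Cfsg.Agent.BZ.E2
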