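import Cfsg.Agent.BZ.E2.Defs
import Cfsg.Agent.KM.Tor.K6
import Cfsg.Agent.KM.Tor.K7a

/-!
# BZ / E2 : the lattice of `E₇` (helper57)

`boxL7 : BoxSp → BoxL7`.  The coordinates are `τ` (the highest root) and the doubled coordinates `z` of the orthogonal `D₆`.
-/

set_option autoImplicit false
set_option linter.unusedSectionVars false

namespace Cfsg.Agent.BZ.E2

open Cfsg Cfsg.Lie Cfsg.Agent.DL Cfsg.Agent.Nodes.Reps Matrix Cfsg.Agent.KZ.DatX Cfsg.Agent.Nodes.RGDChev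
  Cfsg.Agent.ChevalleyStructure.NPerm Cfsg.Agent.ChevalleyStructure.CoxeterGeom
  Cfsg.Agent.ChevalleyStructure.CoxeterGeomTypes Cfsg.Agent.Tits.Roots Cfsg.Agent.KM.Tor
open Cfsg.Agent.TO.X.Cn (cl exists_cl cl_add cl_smul stab_vec)
open Cfsg.Agent.KM.Ex (sr_dot)
open Cfsg.Agent.H92.NE (bl bl_rep)

namespace L7a

section Dat

variable {p : ℕ} [Fact p.Prime] {k : Type} [Field k] [CharP k p] {Y : Type} [Group Y] {N : Type} [Fintype N]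
  [DecidableEq N] {ρ : Y →* GL N k} {F : MulAut Y} {G : Subgroup Y} [IsAlgClosed k] {X : Datum p ρ F G}

theorem mul' (g h : X.W) (v : X.R → ℤ) : X.Wm (g * h) *ᵥ v = X.Wm g *ᵥ X.Wm h *ᵥ v := by
  rw [mulVec_mulVec, X.Wm_mul]

theorem inv' (g : X.W) (v : X.R → ℤ) : X.Wm g⁻¹ *ᵥ X.Wm g *ᵥ v = v := by
  simpa only [inv_inv] using Wm_Wm_inv g⁻¹ v

theorem cj (g w : X.W) (v : X.R → ℤ) : X.Wm (g⁻¹ * w * g) *ᵥ X.Wm g⁻¹ *ᵥ v = X.Wm g⁻¹ *ᵥ X.Wm w *ᵥ v := by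
  rw [mul', mul', Wm_Wm_inv]

theorem inQ_W (g : X.W) {v : X.R → ℤ} : InQ X (X.Wm g *ᵥ v) ↔ InQ X v := by
  obtain ⟨γ, h⟩ := exists_cl X v g
  rw [h]
  refine ⟨fun ⟨β, e⟩ => ⟨β + (-1 : ℤ) • γ, ?_⟩, fun ⟨β, e⟩ => ⟨β + γ, by rw [cl_add, e]⟩⟩
  rw [cl_add, cl_smul, ← e, neg_one_smul, add_neg_cancel_right]

theorem rf' {a : X.I → ℤ} (ha : X.Rt a) (v : X.R → ℤ) : X.Wm (X.rf a) *ᵥ v = v - (X.wt a ⬝ᵥ v) • X.cor a := by
  rw [X.Wm_rf ha, sub_mulVec, one_mulVec, vecMulVec_mulVec, op_smul_eq_smul]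

theorem fix_cj (g w : X.W) (v : X.R → ℤ) : X.Wm (g⁻¹ * w * g) *ᵥ X.Wm g⁻¹ *ᵥ v = X.Wm g⁻¹ *ᵥ v ↔ X.Wm w *ᵥ v = v := by
  rw [cj]
  exact ⟨fun h => by rw [← Wm_Wm_inv g (X.Wm w *ᵥ v), h, Wm_Wm_inv], fun h => by rw [h]⟩

/-- it is enough to treat a normal form of `y` -/
theorem of_nf (P : (X.R → ℤ) → Prop) (hP : ∀ y b, InQ X y → ¬ 2 ∣ X.wt b ⬝ᵥ y → ∃ g, P (X.Wm g⁻¹ *ᵥ y))
    (h : ∀ (w v : X.W) (ω y : X.R → ℤ) (b : X.I → ℤ), P y → X.Wm w *ᵥ ω = ω → X.Wm v *ᵥ ω = -ω → ¬ InQ X ω →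
      (∀ x, InQ X x → X.Wm w *ᵥ x = x → ∃ c : ℤ, X.Wm v *ᵥ x = x - (4 * c) • ω) →
      (∃ x, InQ X x ∧ X.Wm w *ᵥ y = y + (2 : ℤ) • x) → X.Rt b → (∀ x, X.Wm w *ᵥ x = x → X.wt b ⬝ᵥ x = 0) →
      ¬ 2 ∣ X.wt b ⬝ᵥ y → (∀ x, X.Wm w *ᵥ x = x → ∃ c : ℤ, x = c • ω) ∧
        ∀ t : ℤ, (t • X.Wm w - 1).det = (t ^ 6 - 1) * (t + 1)) : L7 X := by
  rintro w v ω y b h1 h2 h3 h4 h5 ⟨x₀, h6, h7⟩ h8 h9 h10
  obtain ⟨g, hg⟩ := hP y b h5 h10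
  have sj : ∀ x, ∃ x', x = X.Wm g⁻¹ *ᵥ x' := fun x => ⟨_, (inv' g x).symm⟩
  have dt : ∀ x, X.wt (X.act g⁻¹ b) ⬝ᵥ X.Wm g⁻¹ *ᵥ x = X.wt b ⬝ᵥ x := fun x => by rw [dot_Wm', act_act_inv]
  obtain ⟨k1, k2⟩ := h (g⁻¹ * w * g) (g⁻¹ * v * g) (X.Wm g⁻¹ *ᵥ ω) _ (X.act g⁻¹ b) hg ((fix_cj g w ω).2 h1)
    (by rw [cj, h2, mulVec_neg]) (mt (inQ_W _).1 h3) (fun x hx e => by
      obtain ⟨x, rfl⟩ := sj x
      exact (h4 x ((inQ_W _).1 hx) ((fix_cj g w x).1 e)).imp fun c e => by rw [cj, e, mulVec_sub, mulVec_smul])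
    ⟨_, (inQ_W g⁻¹).2 h6, by rw [cj, h7, mulVec_add, mulVec_smul]⟩ (h8.act _) (fun x e => by
      obtain ⟨x, rfl⟩ := sj x
      rw [dt, h9 x ((fix_cj g w x).1 e)]) (by rwa [dt])
  refine ⟨fun x hx => (k1 _ ((fix_cj g w x).2 hx)).imp fun c e => ?_, fun t => ?_⟩
  · rw [← Wm_Wm_inv g x, e, mulVec_smul, Wm_Wm_inv]
  · have e : X.Wm g⁻¹ * X.Wm g = 1 := by rw [← X.Wm_mul, inv_mul_cancel, X.Wm_one]
    rw [← k2 t, X.Wm_mul, X.Wm_mul, show t • (X.Wm g⁻¹ * X.Wm w * X.Wm g) - 1 = X.Wm g⁻¹ * (t • X.Wm w - 1) * X.Wm g by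
      rw [Matrix.mul_sub, Matrix.sub_mul, Matrix.mul_one, e, Matrix.mul_smul, Matrix.smul_mul], det_mul, det_mul, mul_right_comm,
      ← det_mul, e, det_one, one_mul]

end Dat

/-- the lattice -/
abbrev V : Type := Fin 7 → ℤ

/-- the coordinates -/
def E : Matrix (Fin 7) (Fin 7) ℤ := !![2, 2, 3, 4, 3, 2, 1; 0, 1, 1, 2, 2, 2, 2; 0, 1, 1, 2, 2, 2, 0; 0, 1, 1, 2, 2, 0, 0;
  0, 1, 1, 2, 0, 0, 0; 0, 1, 1, 0, 0, 0, 0; 0, 1, -1, 0, 0, 0, 0]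

/-- the highest root -/
def τ (x : V) : ℤ := (E *ᵥ x) 0

/-- the doubled coordinates of `D₆` -/
def z (x : V) (i : Fin 6) : ℤ := (E *ᵥ x) i.succ

/-- the doubled coordinates of a root -/
def uu (a : V) : Fin 6 → ℤ := ![2 * a 6 - a 0, 2 * (a 5 - a 6) - a 0, 2 * (a 4 - a 5) - a 0, 2 * (a 3 - a 4) - a 0,
  2 * (a 1 + a 2 - a 3) - a 0, 2 * (a 1 - a 2) + a 0]

/-- the invariant form -/
def Fm (x y : V) : ℤ := z x ⬝ᵥ z y + 2 * (τ x * τ y)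

theorem τ_eq (x : V) : τ x = 2 * x 0 + 2 * x 1 + 3 * x 2 + 4 * x 3 + 3 * x 4 + 2 * x 5 + x 6 := by
  simp [τ, E, mulVec, dotProduct, Fin.sum_univ_seven]

theorem z_eq (x : V) : z x = ![x 1 + x 2 + 2 * (x 3 + x 4 + x 5 + x 6), x 1 + x 2 + 2 * (x 3 + x 4 + x 5),
    x 1 + x 2 + 2 * (x 3 + x 4), x 1 + x 2 + 2 * x 3, x 1 + x 2, x 1 - x 2] := by
  funext i
  fin_cases i <;> simp [z, E, mulVec, dotProduct, Fin.sum_univ_seven] <;> ring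

theorem τ_lin (x y : V) (c : ℤ) : τ (x - c • y) = τ x - c * τ y := by
  rw [τ, mulVec_sub, mulVec_smul]
  rfl

theorem z_lin (x y : V) (c : ℤ) (i : Fin 6) : z (x - c • y) i = z x i - c * z y i := by
  rw [z, mulVec_sub, mulVec_smul]
  rfl

theorem τ_smul (c : ℤ) (y : V) : τ (c • y) = c * τ y := by
  rw [τ, mulVec_smul]
  rfl

theorem z_smul (c : ℤ) (y : V) : z (c • y) = c • z y := funext fun i => by
  rw [z, mulVec_smul]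
  rfl

theorem inj {x y : V} (h : τ x = τ y) (h' : z x = z y) : x = y := by
  rw [τ_eq, τ_eq] at h
  rw [z_eq, z_eq] at h'
  simp only [vecCons_inj, and_true] at h'
  funext i
  fin_cases i <;> simp only [Fin.reduceFinMk, Fin.zero_eta, Fin.mk_one, Fin.isValue] <;> omega

theorem co_eq (a : V) : co chevE7 7 a = ![2 * a 0 - a 2, 2 * a 1 - a 3, 2 * a 2 - a 0 - a 3, 2 * a 3 - a 1 - a 2 - a 4,
    2 * a 4 - a 3 - a 5, 2 * a 5 - a 4 - a 6, 2 * a 6 - a 5] := by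
  have hA : cartanOf chevE7 7 = ![![2, 0, -1, 0, 0, 0, 0], ![0, 2, 0, -1, 0, 0, 0], ![-1, 0, 2, -1, 0, 0, 0],
    ![0, -1, -1, 2, -1, 0, 0], ![0, 0, 0, -1, 2, -1, 0], ![0, 0, 0, 0, -1, 2, -1], ![0, 0, 0, 0, 0, -1, 2]] := by
    decide +kernel
  funext j
  fin_cases j <;> simp [co, hA, Fin.sum_univ_seven] <;> ring

theorem τ_co (a : V) : τ (co chevE7 7 a) = a 0 := by
  rw [τ_eq, co_eq]
  simp
  ring

theorem z_co (a : V) : z (co chevE7 7 a) = uu a := by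
  rw [z_eq, co_eq]
  funext i
  fin_cases i <;> simp [uu] <;> ring

theorem key (a x : V) : 4 * (a ⬝ᵥ x) = uu a ⬝ᵥ z x + 2 * (a 0 * τ x) := by
  rw [z_eq, τ_eq]
  simp [uu, dotProduct, Fin.sum_univ_seven, Fin.sum_univ_six]
  ring

theorem Fm_co (a x : V) : Fm (co chevE7 7 a) x = 4 * (a ⬝ᵥ x) := by rw [Fm, z_co, τ_co, key]

theorem Fm_lin (x y u : V) (c : ℤ) : Fm (x - c • y) u = Fm x u - c * Fm y u := by
  simp only [Fm, τ_lin, z_lin, dotProduct, Fin.sum_univ_six]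
  ring

theorem lift (y : Fin 6 → ℤ) (h : 2 ∣ ∑ i, y i) : ∃ x : V, τ x = 0 ∧ z x = (2 : ℤ) • y ∧ 2 ∣ x 1 + x 4 + x 6 := by
  rw [Fin.sum_univ_six] at h
  refine ⟨![-((y 0 + y 1 + y 2 + y 3 + y 4 - y 5) / 2), y 4 + y 5, y 4 - y 5, y 3 - y 4, y 2 - y 3, y 1 - y 2, y 0 - y 1], ?_, ?_, ?_⟩
  · rw [τ_eq]
    simp
    omega
  · rw [z_eq]
    funext i
    fin_cases i <;> simp <;> ring
  · simp
    omega

/-- `A` is a signed permutation -/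
def Sg (A : Matrix (Fin 7) (Fin 7) ℤ) (ε : ℤ) (σ : Equiv.Perm (Fin 6)) (s : Fin 6 → ℤ) : Prop :=
  ε * ε = 1 ∧ (∀ i, s i * s i = 1) ∧ ∀ x, τ (A *ᵥ x) = ε * τ x ∧ ∀ i, z (A *ᵥ x) (σ i) = s i * z x i

theorem det_eq {A : Matrix (Fin 7) (Fin 7) ℤ} {S : Matrix (Fin 6) (Fin 6) ℤ} (h : ∀ x, τ (A *ᵥ x) = -τ x ∧ z (A *ᵥ x) = S *ᵥ z x)
    (t : ℤ) : (t • A - 1).det = (-t - 1) * (t • S - 1).det := by
  let T : Matrix (Fin 7) (Fin 7) ℤ := of (Fin.cons (Fin.cons (-1) 0) fun i => Fin.cons 0 (S i))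
  have e1 : E * A = T * E := ext_iff_mulVec.2 fun x => by
    rw [← mulVec_mulVec, ← mulVec_mulVec]
    funext i
    refine Fin.cases ((h x).1.trans ?_) (fun i => (congrFun (h x).2 i).trans ?_) i
    · simp [T, τ, mulVec, dotProduct, Fin.sum_univ_succ (n := 6)]
    · simp only [T, z, mulVec, dotProduct, Fin.sum_univ_succ (n := 6), of_apply, Fin.cons_succ, Fin.cons_zero, zero_mul, zero_add]
  have e2 : E.det ≠ 0 := fun e => by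
    obtain ⟨v, h1, h2⟩ := exists_mulVec_eq_zero_iff.2 e
    exact h1 (inj (by rw [τ, τ, h2, mulVec_zero]) (funext fun i => by rw [z, z, h2, mulVec_zero]))
  have e3 : E * (t • A - 1) = (t • T - 1) * E := by
    rw [Matrix.mul_sub, Matrix.sub_mul, Matrix.mul_smul, Matrix.smul_mul, e1, Matrix.mul_one, Matrix.one_mul]
  have e4 : (t • T - 1).submatrix Fin.succ Fin.succ = t • S - 1 := by
    ext i j
    simp only [T, one_apply, submatrix_apply, Matrix.sub_apply, Matrix.smul_apply, of_apply, Fin.cons_succ, Fin.succ_inj]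
  refine mul_left_cancel₀ e2 ?_
  rw [← det_mul, e3, det_mul, mul_comm, det_succ_row_zero (t • T - 1), Fin.sum_univ_succ, Fin.succAbove_zero, e4,
    Finset.sum_eq_zero fun i _ => by simp [T, one_apply, (Fin.succ_ne_zero _).symm]]
  simp [T]

theorem core (hS : BoxSp) {A : Matrix (Fin 7) (Fin 7) ℤ} {ε : ℤ} {σ : Equiv.Perm (Fin 6)} {s : Fin 6 → ℤ} (hA : Sg A ε σ s)
    {ω b : V} (h1 : A *ᵥ ω = ω) (h3 : ¬ 2 ∣ ω 1 + ω 4 + ω 6) (hb : ∀ i, uu b i = 1 ∨ uu b i = -1) (hb0 : b 0 ≠ 0)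
    (h9 : ∀ x, A *ᵥ x = x → b ⬝ᵥ x = 0) (h4 : ∀ x : V, 2 ∣ x 1 + x 4 + x 6 → A *ᵥ x = x → ∃ n : ℤ, Fm x ω = 2 * n * Fm ω ω) :
    (∀ x, A *ᵥ x = x → ∃ c : ℤ, x = c • ω) ∧ ∀ t : ℤ, (t • A - 1).det = (t ^ 6 - 1) * (t + 1) := by
  obtain ⟨a1, a2, a3⟩ := hA
  have fx : ∀ x, ε * τ x = τ x → (∀ i, z x (σ i) = s i * z x i) → A *ᵥ x = x := fun x h h' =>
    inj ((a3 x).1.trans h) (funext fun i => by
      obtain ⟨i, rfl⟩ := σ.surjective i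
      rw [(a3 x).2, h'])
  obtain rfl : ε = -1 := (mul_self_eq_one_iff.1 a1).resolve_left fun e => hb0 (by
    have e0 : z (sr 0) = 0 := by decide +kernel
    rw [← sr_dot 0 b, dotProduct_comm]
    exact h9 _ (fx _ (by rw [e, one_mul]) fun i => by rw [e0, Pi.zero_apply, Pi.zero_apply, mul_zero]))
  have f1 : ∀ x, A *ᵥ x = x → τ x = 0 ∧ ∀ i, z x (σ i) = s i * z x i := fun x h => by
    have := a3 x
    rw [h] at this
    exact ⟨by omega, this.2⟩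
  have f2 : ∀ y : Fin 6 → ℤ, (∀ i, y (σ i) = s i * y i) → 2 ∣ ∑ i, y i → ∃ x : V, A *ᵥ x = x ∧ τ x = 0 ∧ z x = (2 : ℤ) • y ∧
      2 ∣ x 1 + x 4 + x 6 := fun y h h' =>
    (lift y h').imp fun x e => ⟨fx x (by rw [e.1, mul_zero]) fun i => by
      rw [e.2.1, Pi.smul_apply, Pi.smul_apply, h, smul_eq_mul, smul_eq_mul, mul_left_comm], e⟩
  obtain ⟨g1, g2⟩ := f1 ω h1
  obtain ⟨k1, k2⟩ := hS σ s (z ω) (uu b) (fun i => mul_self_eq_one_iff.1 (a2 i)) (fun i => by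
      rw [τ_eq] at g1
      rw [z_eq]
      fin_cases i <;> simp <;> omega) g2 hb (fun y hy => by
      obtain ⟨x, e1, e2, e3, -⟩ := f2 ((2 : ℤ) • y) (fun i => by
        rw [Pi.smul_apply, Pi.smul_apply, hy, smul_eq_mul, smul_eq_mul, mul_left_comm])
        (Finset.dvd_sum fun i _ => dvd_mul_right _ _)
      have := key b x
      rw [h9 x e1, e2, e3, dotProduct_smul, dotProduct_smul, smul_eq_mul, smul_eq_mul] at this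
      omega) fun y hy h => by
      obtain ⟨x, e1, e2, e3, e4⟩ := f2 y hy h
      obtain ⟨n, e⟩ := h4 x e4 e1
      rw [Fm, Fm, e2, g1, e3, smul_dotProduct, smul_eq_mul, dotProduct_comm y] at e
      exact ⟨n, by linarith⟩
  refine ⟨fun x hx => (k1 _ (f1 x hx).2).imp fun c e => inj ?_ (e.trans (z_smul c ω).symm), fun t => ?_⟩
  · rw [τ_smul, g1, (f1 x hx).1, mul_zero]
  · rw [det_eq (fun x => ⟨(a3 x).1.trans (neg_one_mul _), funext fun i => ?_⟩) t, k2]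
    · ring
    obtain ⟨i, rfl⟩ := σ.surjective i
    simp [(a3 x).2, mulVec, dotProduct]

/-- the table of the roots -/
def Tb (a : V) : Prop := (¬ 2 ∣ a 0 → ∀ i, uu a i = 1 ∨ uu a i = -1) ∧ (2 ∣ a 0 → ((∀ i, uu a i = 0) ∧ (a 0 = 2 ∨ a 0 = -2)) ∨
  (a 0 = 0 ∧ ∃ i j, i ≠ j ∧ (uu a i = 2 ∨ uu a i = -2) ∧ (uu a j = 2 ∨ uu a j = -2) ∧ ∀ l, l ≠ i → l ≠ j → uu a l = 0))

theorem tb : ∀ s : Fin chevE7.nroots, Tb (vec chevE7 7 s) := by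
  unfold Tb
  decide +kernel

theorem Tb.sg {a : V} (h : Tb a) (h2 : 2 ∣ a 0) {A : Matrix (Fin 7) (Fin 7) ℤ}
    (hA : ∀ x, A *ᵥ x = x - (a ⬝ᵥ x) • co chevE7 7 a) : ∃ ε σ s, Sg A ε σ s := by
  rcases h.2 h2 with ⟨h3, h4⟩ | ⟨h3, i, j, h4, h5, h6, h7⟩
  · refine ⟨-1, 1, fun _ => 1, rfl, fun _ => rfl, fun x => ?_⟩
    have e := key a x
    rw [show uu a = 0 from funext h3, zero_dotProduct] at e
    simp only [hA, τ_lin, z_lin, τ_co, z_co, h3]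
    refine ⟨?_, fun i => by simp⟩
    rcases h4 with h4 | h4 <;> rw [h4] at e ⊢ <;> omega
  · refine ⟨1, Equiv.swap i j, fun l => if l = i ∨ l = j then -(uu a i * uu a j / 4) else 1, rfl, fun l => ?_, fun x => ?_⟩
    · dsimp only
      split_ifs
      · rcases h5 with h5 | h5 <;> rcases h6 with h6 | h6 <;> rw [h5, h6] <;> rfl
      · rfl
    have e := key a x
    rw [h3, show uu a ⬝ᵥ z x = uu a i * z x i + uu a j * z x j from Finset.sum_eq_add_of_mem i j (Finset.mem_univ _)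
      (Finset.mem_univ _) h4 fun l _ h => by rw [h7 l h.1 h.2, zero_mul]] at e
    simp only [hA, τ_lin, z_lin, τ_co, z_co, h3]
    refine ⟨by ring, fun l => ?_⟩
    by_cases h8 : l = i
    · rw [h8, Equiv.swap_apply_left, if_pos (.inl rfl)]
      rcases h5 with h5 | h5 <;> rcases h6 with h6 | h6 <;> rw [h5, h6] at e ⊢ <;> omega
    by_cases h9 : l = j
    · rw [h9, Equiv.swap_apply_right, if_pos (.inr rfl)]
      rcases h5 with h5 | h5 <;> rcases h6 with h6 | h6 <;> rw [h5, h6] at e ⊢ <;> omega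
    · rw [Equiv.swap_apply_of_ne_of_ne h8 h9, if_neg (not_or.2 ⟨h8, h9⟩), h7 l h8 h9]
      ring

theorem wd : (([5, 4, 3, 2, 1, 3, 4, 5, 0, 2, 3, 4, 1, 3, 2, 0] : List (Fin 7)).map (sM chevE7 7)).prod *ᵥ sr 0 =
    ![0, 0, 0, 0, 0, -1, 2] := prod_mulVec isRows_E7 _ (by decide +kernel)

variable {r : ℕ} [Fact r.Prime] {k : Type} [Field k] [CharP k r] [IsAlgClosed k] {Mx : Matrix (Fin 7) (Fin 7) ℤ}
  (X : XF hpE7 r k Mx)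

theorem inQ_iff (x : V) : InQ X.D x ↔ 2 ∣ x 1 + x 4 + x 6 := by
  refine ⟨fun ⟨β, e⟩ => ?_, fun h => ⟨![2 * x 0 + 2 * x 1 + 3 * x 2 + 4 * x 3 + 3 * x 4 + 2 * x 5 + x 6,
    (4 * x 0 + 7 * x 1 + 8 * x 2 + 12 * x 3 + 9 * x 4 + 6 * x 5 + 3 * x 6) / 2,
    3 * x 0 + 4 * x 1 + 6 * x 2 + 8 * x 3 + 6 * x 4 + 4 * x 5 + 2 * x 6,
    4 * x 0 + 6 * x 1 + 8 * x 2 + 12 * x 3 + 9 * x 4 + 6 * x 5 + 3 * x 6,
    (6 * x 0 + 9 * x 1 + 12 * x 2 + 18 * x 3 + 15 * x 4 + 10 * x 5 + 5 * x 6) / 2,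
    2 * x 0 + 3 * x 1 + 4 * x 2 + 6 * x 3 + 5 * x 4 + 4 * x 5 + 2 * x 6,
    (2 * x 0 + 3 * x 1 + 4 * x 2 + 6 * x 3 + 5 * x 4 + 4 * x 5 + 3 * x 6) / 2],
      Eq.trans ?_ ((K6.cl_co X _).trans (co_eq _)).symm⟩⟩
  · rw [e.trans ((K6.cl_co X β).trans (co_eq β))]
    simp
    omega
  · funext j
    fin_cases j <;> simp <;> omega

/-- the matrix of an element of the Weyl group -/
noncomputable def W (w : X.D.W) : Matrix (Fin 7) (Fin 7) ℤ := X.D.Wm w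

/-- the action on roots -/
noncomputable def ac (w : X.D.W) (a : V) : V := X.D.act w a

theorem dot_W (w : X.D.W) (a x : V) : ac X w a ⬝ᵥ W X w *ᵥ x = a ⬝ᵥ x :=
  (dot_Wm (X := X.D) w _ x).trans (congrArg (fun b : V => b ⬝ᵥ x) (act_inv_act (X := X.D) w a))

theorem W_co (w : X.D.W) (a : V) : W X w *ᵥ co chevE7 7 a = co chevE7 7 (ac X w a) := funext fun i => by
  have e : ac X w (ac X w⁻¹ (sr i)) = sr i := act_act_inv (X := X.D) w _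
  rw [← sr_dot i (W X w *ᵥ _), ← sr_dot i (co _ _ _), ← e, dot_W, dot_co, dot_co]
  exact (bl_rep hpE7 K7.sl.1 w _ _).symm

/-- the signed permutations -/
def H : Subgroup X.D.W where
  carrier := {g | ∃ ε σ s, Sg (W X g) ε σ s}
  one_mem' := ⟨1, 1, fun _ => 1, rfl, fun _ => rfl, fun x => by
    rw [show W X 1 = 1 from X.D.Wm_one, one_mulVec]
    exact ⟨(one_mul _).symm, fun _ => (one_mul _).symm⟩⟩
  mul_mem' := fun {g h} ⟨ε, σ, s, a1, a2, a3⟩ ⟨ε', σ', s', b1, b2, b3⟩ =>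
    ⟨ε * ε', σ * σ', fun i => s (σ' i) * s' i, by linear_combination ε' * ε' * a1 + b1,
      fun i => by linear_combination s' i * s' i * a2 (σ' i) + b2 i, fun x => by
        rw [show W X (g * h) *ᵥ x = W X g *ᵥ W X h *ᵥ x from mul' (X := X.D) g h x]
        exact ⟨by rw [(a3 _).1, (b3 _).1, mul_assoc], fun i => by rw [Equiv.Perm.mul_apply, (a3 _).2, (b3 _).2, mul_assoc]⟩⟩
  inv_mem' := fun {g} ⟨ε, σ, s, a1, a2, a3⟩ => ⟨ε, σ⁻¹, fun i => s (σ⁻¹ i), a1, fun _ => a2 _, fun x => by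
    have e := a3 (W X g⁻¹ *ᵥ x)
    rw [show W X g *ᵥ W X g⁻¹ *ᵥ x = x from Wm_Wm_inv (X := X.D) g x] at e
    refine ⟨by rw [e.1, ← mul_assoc, a1, one_mul], fun i => ?_⟩
    have e' := e.2 (σ⁻¹ i)
    rw [show σ (σ⁻¹ i) = i from σ.apply_symm_apply i] at e'
    rw [e', ← mul_assoc, a2, one_mul]⟩

theorem rf_mem {a : V} (ha : X.D.Rt a) (h : 2 ∣ a 0) : X.D.rf a ∈ H X :=
  (forall_rt X tb a ha).sg h fun x => by
    rw [← cor_eq X K7.sl ha]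
    exact rf' (X := X.D) ha x

theorem nf (y : V) (h : 2 ∣ y 1 + y 4 + y 6) (h' : ¬ ∀ i, 2 ∣ y i) : ∃ (g : X.D.W) (d : V), y = W X g *ᵥ sr 0 + (2 : ℤ) • d := by
  obtain ⟨g, c, c0, (d : V), K, (e : y = W X g *ᵥ (fun i => (c i : ℤ)) + (2 : ℤ) • d)⟩ := alc X two_pos y
  have h1 := K.sum
  rw [K7.hr7] at h1
  simp [Fin.sum_univ_seven] at h1
  have h2 : (2 : ℤ) ∣ c 1 + c 4 + c 6 := (inQ_iff X fun i => (c i : ℤ)).1 ((inQ_W (X := X.D) g).1 ((inQ_iff X (W X g *ᵥ _)).2 (by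
    rw [e] at h
    simp only [Pi.add_apply, Pi.smul_apply, smul_eq_mul] at h
    omega)))
  obtain ⟨g', (e' : W X g' *ᵥ sr 0 = ![0, 0, 0, 0, 0, -1, 2])⟩ : ∃ g', W X g' *ᵥ sr 0 = ![0, 0, 0, 0, 0, -1, 2] :=
    ⟨_, (congrArg (fun A : Matrix (Fin 7) (Fin 7) ℤ => A *ᵥ sr 0) (X.Wm_word _)).trans wd⟩
  have h3 : ∀ u u' : V, (∀ i, (c i : ℤ) = u i + 2 * u' i) → y = W X g *ᵥ u + (2 : ℤ) • (W X g *ᵥ u' + d) := fun u u' h => by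
    rw [e, show (fun i => (c i : ℤ)) = u + (2 : ℤ) • u' from funext h, mulVec_add, mulVec_smul, smul_add, add_assoc]
  rcases (by omega : c 0 = 1 ∨ c 5 = 1 ∨ (c 0 = 0 ∧ c 5 = 0)) with h4 | h4 | h4
  · exact ⟨g, _, h3 (sr 0) 0 fun i => by fin_cases i <;> simp [sr] <;> omega⟩
  · rw [h3 ![0, 0, 0, 0, 0, -1, 2] ![0, 0, 0, 0, 0, 1, -1] fun i => by fin_cases i <;> simp <;> omega, ← e']
    exact ⟨g * g', _, congrArg (· + _) (mul' (X := X.D) g g' _).symm⟩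
  · refine absurd (fun i => ?_) h'
    rw [h3 0 (fun i => c i / 2) fun i => by fin_cases i <;> simp <;> omega, mulVec_zero, zero_add]
    exact dvd_mul_right _ _

end L7a

open L7a in
/-- **[L7]** -/
theorem boxL7 (hS : BoxSp) : BoxL7 := fun _ _ _ _ _ _ _ X => by
  refine of_nf (fun y : V => ∀ a : V, 2 ∣ a ⬝ᵥ y ↔ 2 ∣ a 0) (fun (y : V) (b : V) h h' => ?_)
    fun w v (ω y b : V) hy h1 (h2 : W X v *ᵥ ω = -ω) h3 h4 ⟨x₀, ⟨β, h6⟩, h7⟩ h8 h9 h10 => ?_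
  · obtain ⟨g, d, e⟩ := nf X y ((inQ_iff X y).1 h) fun e => h' (Finset.dvd_sum fun i _ => (e i).mul_left _)
    refine ⟨g, fun a => ?_⟩
    change 2 ∣ a ⬝ᵥ W X g⁻¹ *ᵥ y ↔ _
    rw [e, mulVec_add, mulVec_smul, show W X g⁻¹ *ᵥ W X g *ᵥ sr 0 = sr 0 from inv' (X := X.D) g _, dotProduct_add,
      dotProduct_smul, dotProduct_comm, sr_dot, smul_eq_mul]
    exact dvd_add_left (dvd_mul_right _ _)
  obtain ⟨ε, σ, s, hA⟩ : w ∈ H X := stab_vec X.D two_pos (h6 ▸ h7) fun a ha e => rf_mem X ha ((hy a).1 e)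
  have hb : ¬ 2 ∣ b 0 := mt (hy b).2 h10
  refine core hS hA h1 (mt (inQ_iff X ω).2 h3) ((forall_rt X tb b h8).1 hb) (fun e => hb (e ▸ dvd_zero 2)) h9 fun x hx e => ?_
  obtain ⟨n, (e1 : W X v *ᵥ x = x - (4 * n) • ω)⟩ := h4 x ((inQ_iff X x).2 hx) e
  obtain ⟨γ, rfl⟩ : ∃ γ : V, x = co chevE7 7 γ := ((inQ_iff X x).2 hx).imp fun γ e => e.trans (K6.cl_co X γ)
  have e3 := dot_W X v γ ω
  have e4 := Fm_lin (co chevE7 7 γ) ω ω (4 * n)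
  rw [h2, dotProduct_neg] at e3
  rw [← e1, W_co, Fm_co, Fm_co] at e4
  exact ⟨n, by rw [Fm_co]; linarith⟩

end Cfsg.Agent.BZ.E2
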