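import Cfsg.Agent.BZ.E2.Defs

/-!
# BZ / E2 : signed permutations of six letters (helper78)

* `Sp.det_rot`, `Sp.det_cyc` : the determinant of `t P - 1` for a cycle of length six;
* `boxSp`.
-/

set_option autoImplicit false

namespace Cfsg.Agent.BZ.E2

open Matrix Equiv Finset

namespace Sp

theorem det_rot (t : ℤ) :
    (t • (Matrix.of fun i j => if i = finRotate 6 j then 1 else 0) - 1 : Matrix (Fin 6) (Fin 6) ℤ).det = 1 - t ^ 6 := by
  have h : (t • (Matrix.of fun i j => if i = finRotate 6 j then 1 else 0) - 1 : Matrix (Fin 6) (Fin 6) ℤ) =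
      !![-1, 0, 0, 0, 0, t; t, -1, 0, 0, 0, 0; 0, t, -1, 0, 0, 0; 0, 0, t, -1, 0, 0; 0, 0, 0, t, -1, 0; 0, 0, 0, 0, t, -1] := by
    ext i j
    fin_cases i <;> fin_cases j <;> simp
  rw [h]
  simp [det_succ_row_zero, Fin.sum_univ_succ, Fin.succAbove]
  ring

theorem det_cyc {σ : Perm (Fin 6)} (h : ∀ i j, σ.SameCycle i j) (t : ℤ) :
    (t • (Matrix.of fun i j => if i = σ j then 1 else 0) - 1 : Matrix (Fin 6) (Fin 6) ℤ).det = 1 - t ^ 6 := by
  have h1 : ∀ i, σ i ≠ i := fun i e => by
    have h2 : ∀ j, i = j := fun j => (h i j).eq_of_left e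
    exact absurd ((h2 0).symm.trans (h2 1)) (by decide)
  have h2 : σ.IsCycle := ⟨0, h1 0, fun j _ => h 0 j⟩
  obtain ⟨e, he⟩ := isConj_iff.1 (h2.isConj (isCycle_finRotate (n := 4)) (by
    rw [support_finRotate, Finset.eq_univ_iff_forall.2 fun i => Perm.mem_support.2 (h1 i)]))
  rw [← det_rot t, ← det_submatrix_equiv_self e.symm]
  refine congrArg _ (Matrix.ext fun i j => ?_)
  have h3 : e.symm i = σ (e.symm j) ↔ i = finRotate 6 j := by
    rw [Equiv.symm_apply_eq]
    exact (DFunLike.congr_fun he j).congr_right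
  simp [Matrix.one_apply, h3]

end Sp

/-- **[Sp]** -/
theorem boxSp : BoxSp := by
  intro σ s c β hs hc hσ hβ h0 h1
  have s2 : ∀ i, s i * s i = 1 := fun i => by rcases hs i with e | e <;> simp [e]
  have ev : ∀ z : Fin 6 → ℤ, (∀ i, z (σ i) = s i * z i) → 2 ∣ ∑ i, z i := fun z hz => by
    have h : 2 ∣ ∑ i, z i - β ⬝ᵥ z := by
      rw [dotProduct, ← sum_sub_distrib]
      exact dvd_sum fun i _ => by rcases hβ i with e | e <;> rw [e] <;> omega
    rwa [h0 z hz, sub_zero] at h
  have key : ∀ C : Fin 6 → Prop, (∀ i, C (σ i) ↔ C i) → ∀ j, C j → ∀ i, C i ∧ c i * c i = 1 := fun C hC j hj => by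
    classical
    have h2 : ∀ i, (if C (σ i) then (c (σ i)).sign else 0) = s i * if C i then (c i).sign else 0 := fun i => by
      rw [hσ]
      by_cases e : C i <;> rcases hs i with e' | e' <;> simp [hC, e, e']
    have h3 := h1 (fun i => if C i then (c i).sign else 0) h2 (ev (fun i => if C i then (c i).sign else 0) h2)
    have h4 : ∀ i, 0 ≤ c i * (if C i then (c i).sign else 0) ∧ (C i → 0 < c i * (if C i then (c i).sign else 0)) ∧
        c i * (if C i then (c i).sign else 0) ≤ c i * c i ∧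
        (c i * (if C i then (c i).sign else 0) = c i * c i → C i ∧ c i * c i = 1) := fun i => by
      have h5 : c i ≠ 0 := fun e => hc i (e ▸ dvd_zero 2)
      have h6 := mul_self_pos.2 h5
      by_cases e : C i
      · rw [if_pos e, Int.mul_sign_self, Int.natCast_natAbs, ← abs_mul_abs_self]
        have h7 := abs_pos.2 h5
        refine ⟨h7.le, fun _ => h7, by nlinarith, fun k => ⟨e, ?_⟩⟩
        rw [mul_left_cancel₀ h7.ne' (k.symm.trans (mul_one _).symm), mul_one]
      · rw [if_neg e, mul_zero]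
        exact ⟨le_rfl, fun k => absurd k e, h6.le, fun k => absurd k h6.ne⟩
    have h5 := Int.le_of_dvd (sum_pos' (fun i _ => (h4 i).1) ⟨j, mem_univ j, (h4 j).2.1 hj⟩) h3
    exact fun i => (h4 i).2.2.2 ((sum_eq_sum_iff_of_le fun i _ => (h4 i).2.2.1).1
      (le_antisymm (sum_le_sum fun i _ => (h4 i).2.2.1) h5) i (mem_univ i))
  have c2 : ∀ i, c i * c i = 1 := fun i => (key (fun _ => True) (fun _ => Iff.rfl) 0 trivial i).2
  refine ⟨fun z hz => ⟨z 0 * c 0, funext fun i => ?_⟩, fun t => ?_⟩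
  · have h2 := (key (fun i => z i * c i = z 0 * c 0) (fun i => by
      rw [hz, hσ, mul_mul_mul_comm, s2, one_mul]) 0 rfl i).1
    rw [Pi.smul_apply, smul_eq_mul, ← h2, mul_assoc, c2, mul_one]
  · have h2 : (diagonal c * diagonal c : Matrix (Fin 6) (Fin 6) ℤ) = 1 := by
      rw [diagonal_mul_diagonal, ← diagonal_one]
      exact congrArg _ (funext c2)
    have h3 : (t • (Matrix.of fun i j => if i = σ j then s j else 0) - 1 : Matrix (Fin 6) (Fin 6) ℤ) =
        diagonal c * (t • (Matrix.of fun i j => if i = σ j then 1 else 0) - 1) * diagonal c := by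
      rw [mul_sub, sub_mul, mul_one, h2]
      refine congrArg (· - 1) (Matrix.ext fun i j => ?_)
      by_cases e : i = σ j
      · simp only [mul_diagonal, diagonal_mul, Matrix.smul_apply, of_apply, if_pos e, smul_eq_mul]
        rw [e, hσ]
        linear_combination (-t * s j) * c2 j
      · simp [e]
    have h4 := congrArg det h2
    rw [det_mul, det_one] at h4
    rw [h3, det_mul, det_mul, Sp.det_cyc fun i j => (key (σ.SameCycle i) (fun _ => Perm.sameCycle_apply_right) i
      (Perm.SameCycle.refl σ i) j).1]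
    linear_combination (1 - t ^ 6) * h4

end Cfsg.Agent.BZ.E2
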